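import Mathlib

/-!
Algebra for crimps over `k⟦t⟧`: closedness under multiplication, quadratic algebras.
-/

set_option autoImplicit false

universe u v

namespace Groth.Agent.Crimp71

open Module

theorem mul_closed_iff {R : Type u} {A : Type v} [CommRing R] [CommRing A] [Algebra R A] (g : A)
    (I S : Submodule R A) (hI : ∀ (a : A), ∀ x ∈ I, a * x ∈ I)
    (hS : S = Submodule.span R {1, g} ⊔ I) :
    (∀ x ∈ S, ∀ y ∈ S, x * y ∈ S) ↔ g * g ∈ S := by
  have hg : g ∈ S := hS ▸ Submodule.mem_sup_left (Submodule.subset_span (by simp))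
  refine ⟨fun h => h g hg g hg, fun h x hx y hy => ?_⟩
  have key : ∀ z ∈ S, ∃ (a b : R), ∃ i ∈ I, z = a • 1 + b • g + i := fun z hz => by
    rw [hS] at hz
    obtain ⟨w, hw, i, hi, rfl⟩ := Submodule.mem_sup.1 hz
    obtain ⟨a, b, rfl⟩ := Submodule.mem_span_pair.1 hw
    exact ⟨a, b, i, hi, rfl⟩
  have h1 : (1 : A) ∈ S := hS ▸ Submodule.mem_sup_left (Submodule.subset_span (by simp))
  have hi' : ∀ i ∈ I, i ∈ S := fun i hi => hS ▸ Submodule.mem_sup_right hi
  obtain ⟨a, b, i, hi, rfl⟩ := key x hx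
  obtain ⟨c, d, j, hj, rfl⟩ := key y hy
  have e : (a • 1 + b • g + i) * (c • 1 + d • g + j) =
      (a * c) • 1 + (a * d + b * c) • g + (b * d) • (g * g) +
        ((a • 1 + b • g + i) * j + (c • 1 + d • g) * i) := by
    simp only [Algebra.smul_def, map_mul, map_add]
    ring
  rw [e]
  exact add_mem (add_mem (add_mem (S.smul_mem _ h1) (S.smul_mem _ hg)) (S.smul_mem _ h))
    (hi' _ (add_mem (hI _ _ hj) (hI _ _ hi)))

variable {R : Type u} [CommRing R] {A : Type v} [CommRing A] [Algebra R A]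

/-- The discriminant of a basis `1, y` with `y ^ 2 = c`. -/
theorem discr_quad (b : Basis (Fin 2) R A) (h0 : b 0 = 1) (c : R) (h1 : b 1 * b 1 = c • 1) :
    Algebra.discr R ⇑b = 4 * c := by
  have ht1 : Algebra.trace R A (1 : A) = 2 := by
    rw [← map_one (algebraMap R A), Algebra.trace_algebraMap_of_basis b]
    simp
  have e10 : b.repr (b 0) 1 = 0 := by simp
  have e01 : b.repr (b 1) 0 = 0 := by simp
  have hty : Algebra.trace R A (b 1) = 0 := by
    rw [Algebra.trace_eq_matrix_trace b, Matrix.trace_fin_two]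
    simp only [Algebra.leftMulMatrix_eq_repr_mul]
    rw [h0, mul_one, h1, ← h0, map_smul, Finsupp.smul_apply, e01, e10, smul_zero, add_zero]
  rw [Algebra.discr_def, Matrix.det_fin_two]
  simp only [Algebra.traceMatrix_apply, Algebra.traceForm_apply, h0, one_mul, mul_one, h1, map_smul, ht1,
    hty, smul_eq_mul]
  ring

variable [IsDomain R] [IsPrincipalIdealRing R]

/-- The coordinate ideal of a subalgebra of a quadratic algebra. -/
theorem exists_coord (bA : Basis (Fin 2) R A) (h0 : bA 0 = 1) (S : Subalgebra R A)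
    (bS : Basis (Fin 2) R S) :
    ∃ c : R, c ≠ 0 ∧ Subalgebra.toSubmodule S =
      Submodule.span R {(1 : A)} ⊔ Submodule.span R {c • bA 1} := by
  let J : Ideal R := (Subalgebra.toSubmodule S).map (bA.coord 1)
  obtain ⟨c, hc⟩ := IsPrincipalIdealRing.principal J
  have hdec : ∀ x : A, x = bA.repr x 0 • (1 : A) + bA.repr x 1 • bA 1 := fun x => by
    conv_lhs => rw [← bA.sum_repr x, Fin.sum_univ_two, h0]
  have hS : Subalgebra.toSubmodule S = Submodule.span R {(1 : A)} ⊔ Submodule.span R {c • bA 1} := by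
    apply le_antisymm
    · intro x hx
      have : bA.repr x 1 ∈ J := ⟨x, hx, rfl⟩
      rw [hc, Submodule.mem_span_singleton] at this
      obtain ⟨r, hr⟩ := this
      rw [hdec x, ← hr, smul_assoc]
      exact Submodule.add_mem_sup (Submodule.smul_mem _ _ (Submodule.mem_span_singleton_self _))
        (Submodule.smul_mem _ _ (Submodule.mem_span_singleton_self _))
    · refine sup_le ((Submodule.span_singleton_le_iff_mem _ _).2 (one_mem S)) ?_
      obtain ⟨x, hx, hxc⟩ : c ∈ J := hc ▸ Submodule.mem_span_singleton_self c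
      rw [Submodule.span_singleton_le_iff_mem,
        show c • bA 1 = x - bA.repr x 0 • (1 : A) from ?_]
      · exact sub_mem hx (Submodule.smul_mem _ _ (one_mem S))
      · rw [eq_sub_iff_add_eq', ← hxc]
        exact (hdec x).symm
  refine ⟨c, fun h => ?_, hS⟩
  subst h
  rw [zero_smul, Submodule.span_zero_singleton, sup_bot_eq] at hS
  have hm : ∀ i, ∃ r : R, r • (1 : A) = (bS i : A) := fun i =>
    Submodule.mem_span_singleton.1 (hS.le (bS i).2)
  choose r hr using hm
  have hli : LinearIndependent R ⇑bS := bS.linearIndependent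
  have hcomb : r 1 • bS 0 + (-r 0) • bS 1 = 0 := by
    apply Subtype.ext
    simp only [Subalgebra.coe_add, Subalgebra.coe_smul, ← hr, smul_smul, ZeroMemClass.coe_zero]
    rw [← add_smul, show r 1 * r 0 + -r 0 * r 1 = 0 by ring, zero_smul]
  have := Fintype.linearIndependent_iff.1 hli ![r 1, -r 0] (by simpa [Fin.sum_univ_two] using hcomb) 0
  simp at this
  exact bS.ne_zero 1 (Subtype.ext (by rw [← hr, this, zero_smul]; rfl))

omit [IsPrincipalIdealRing R] in
/-- The basis `1, c • w` of a subalgebra. -/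
theorem exists_basis (bA : Basis (Fin 2) R A) (h0 : bA 0 = 1) (S : Subalgebra R A) (c : R) (hc : c ≠ 0)
    (hS : Subalgebra.toSubmodule S = Submodule.span R {(1 : A)} ⊔ Submodule.span R {c • bA 1}) :
    ∃ b : Basis (Fin 2) R S, b 0 = 1 ∧ (b 1 : A) = c • bA 1 := by
  have hmem : c • bA 1 ∈ S := hS.ge (Submodule.mem_sup_right (Submodule.mem_span_singleton_self _))
  let v : Fin 2 → S := ![1, ⟨_, hmem⟩]
  have hli : LinearIndependent R v := by
    apply LinearIndependent.of_comp S.val.toLinearMap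
    rw [Fintype.linearIndependent_iff]
    intro g hg
    have h2 := Fintype.linearIndependent_iff.1 bA.linearIndependent ![g 0, g 1 * c]
      (by simpa [Fin.sum_univ_two, v, h0, mul_smul] using hg)
    intro i
    fin_cases i
    · simpa using h2 0
    · simpa [hc] using h2 1
  have hspan : ⊤ ≤ Submodule.span R (Set.range v) := by
    rintro ⟨x, hx⟩ -
    obtain ⟨y, hy, z, hz, rfl⟩ := Submodule.mem_sup.1 (hS.le hx)
    obtain ⟨a, rfl⟩ := Submodule.mem_span_singleton.1 hy
    obtain ⟨b, rfl⟩ := Submodule.mem_span_singleton.1 hz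
    rw [show (⟨a • (1 : A) + b • c • bA 1, hx⟩ : S) = a • v 0 + b • v 1 from rfl]
    exact add_mem (Submodule.smul_mem _ _ (Submodule.subset_span ⟨0, rfl⟩))
      (Submodule.smul_mem _ _ (Submodule.subset_span ⟨1, rfl⟩))
  exact ⟨Basis.mk hli hspan, by simp [v], by simp [v]⟩

/-- An algebra with basis `1, y`, `y ^ 2 = c`, is `R[X] / (X ^ 2 - c)`. -/
theorem nonempty_algEquiv_adjoinRoot (b : Basis (Fin 2) R A) (h0 : b 0 = 1) (c : R)
    (h1 : b 1 * b 1 = c • 1) :
    Nonempty (A ≃ₐ[R] AdjoinRoot (Polynomial.X ^ 2 - Polynomial.C c)) := by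
  have hm : (Polynomial.X ^ 2 - Polynomial.C c).Monic := Polynomial.monic_X_pow_sub_C c two_ne_zero
  have haev : Polynomial.aeval (b 1) (Polynomial.X ^ 2 - Polynomial.C c) = 0 := by
    simp [pow_two, h1, Algebra.algebraMap_eq_smul_one]
  let φ := AdjoinRoot.liftAlgHom (Polynomial.X ^ 2 - Polynomial.C c) (Algebra.ofId R A) (b 1) haev
  let pb := AdjoinRoot.powerBasis' hm
  have hdim : pb.dim = 2 := Polynomial.natDegree_X_pow_sub_C
  let e : Fin pb.dim ≃ Fin 2 := finCongr hdim
  have hφ : φ.toLinearMap = (pb.basis.equiv b e).toLinearMap := by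
    refine pb.basis.ext fun i => ?_
    simp only [AlgHom.toLinearMap_apply, LinearEquiv.coe_coe, Basis.equiv_apply, PowerBasis.coe_basis,
      map_pow]
    rw [show φ pb.gen = b 1 from AdjoinRoot.liftAlgHom_root _ _ _ haev,
      show pb.gen ^ (i : ℕ) = pb.basis i from (pb.basis_eq_pow i).symm, Basis.equiv_apply]
    have : (i : ℕ) = (e i : ℕ) := rfl
    rw [this]
    generalize e i = j
    fin_cases j <;> simp [h0]
  have hbij : Function.Bijective φ := by
    rw [show (φ : _ → A) = φ.toLinearMap from rfl, hφ]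
    exact (pb.basis.equiv b e).bijective
  exact ⟨(AlgEquiv.ofBijective φ hbij).symm⟩

end Groth.Agent.Crimp71
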