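import Mathlib
import Groth.Agent.Crimp71.Basic
import Groth.Agent.S13877

/-!
Crimps of double covers of the formal disk.
-/

set_option autoImplicit false

universe u v

namespace Groth.Agent.Crimp71

open Module

variable {k : Type u} [Field k] [CharZero k] {A : Type v} [CommRing A] [Algebra (PowerSeries k) A]

local notation "t" => (PowerSeries.X : PowerSeries _)

omit [CharZero k] in
theorem sup_smul_top_eq (bA : Basis (Fin 2) (PowerSeries k) A) (h0 : bA 0 = 1) (c : PowerSeries k) :
    Submodule.span (PowerSeries k) {(1 : A)} ⊔ Ideal.span {c} • (⊤ : Submodule (PowerSeries k) A) =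
      Submodule.span (PowerSeries k) {(1 : A)} ⊔ Submodule.span (PowerSeries k) {c • bA 1} := by
  refine le_antisymm (sup_le le_sup_left ?_) (sup_le le_sup_left ?_)
  · refine Submodule.smul_le.2 fun r hr x _ => ?_
    obtain ⟨d, rfl⟩ := Ideal.mem_span_singleton.1 hr
    rw [← bA.sum_repr x, Fin.sum_univ_two, h0, smul_add, smul_smul, smul_smul,
      show c * d * bA.repr x 1 = d * bA.repr x 1 * c by ring, mul_smul (d * bA.repr x 1)]
    exact Submodule.add_mem_sup (Submodule.smul_mem _ _ (Submodule.mem_span_singleton_self _))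
      (Submodule.smul_mem _ _ (Submodule.mem_span_singleton_self _))
  · rw [Submodule.span_singleton_le_iff_mem]
    exact Submodule.mem_sup_right (Submodule.smul_mem_smul (Ideal.mem_span_singleton_self c) trivial)

theorem double_crimps (a : ℕ) (bA : Basis (Fin 2) (PowerSeries k) A) (h0 : bA 0 = 1)
    (h1 : bA 1 * bA 1 = (PowerSeries.X : PowerSeries k) ^ a • 1) (b : ℕ)
    (S : Subalgebra (PowerSeries k) A) :
    ((∃ bS : Module.Basis (Fin 2) (PowerSeries k) S,
      Ideal.span {Algebra.discr (PowerSeries k) ⇑bS} = Ideal.span {(PowerSeries.X : PowerSeries k) ^ b}) ↔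
    ∃ n : ℕ, b = 2 * n + a ∧
      Subalgebra.toSubmodule S = Submodule.span (PowerSeries k) {(1 : A)} ⊔
        Ideal.span {(PowerSeries.X : PowerSeries k) ^ n} • (⊤ : Submodule (PowerSeries k) A)) ∧
    (∀ n : ℕ, Subalgebra.toSubmodule S = Submodule.span (PowerSeries k) {(1 : A)} ⊔
        Ideal.span {(PowerSeries.X : PowerSeries k) ^ n} • (⊤ : Submodule (PowerSeries k) A) →
      Nonempty (S ≃ₐ[PowerSeries k] AdjoinRoot (Polynomial.X ^ 2 -
        Polynomial.C ((PowerSeries.X : PowerSeries k) ^ (2 * n + a))))) := by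
  have hbasis : ∀ n : ℕ, Subalgebra.toSubmodule S = Submodule.span (PowerSeries k) {(1 : A)} ⊔
      Ideal.span {(PowerSeries.X : PowerSeries k) ^ n} • (⊤ : Submodule (PowerSeries k) A) →
      ∃ bS : Basis (Fin 2) (PowerSeries k) S, bS 0 = 1 ∧
        bS 1 * bS 1 = (PowerSeries.X : PowerSeries k) ^ (2 * n + a) • 1 := fun n hn => by
    rw [sup_smul_top_eq bA h0] at hn
    obtain ⟨bS, e0, e1⟩ := exists_basis bA h0 S _ (pow_ne_zero n PowerSeries.X_ne_zero) hn
    refine ⟨bS, e0, Subtype.ext ?_⟩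
    rw [Subalgebra.coe_mul, e1, smul_mul_smul_comm, h1, smul_smul, Subalgebra.coe_smul, OneMemClass.coe_one]
    congr 1
    ring
  have hdisc : ∀ n : ℕ, Subalgebra.toSubmodule S = Submodule.span (PowerSeries k) {(1 : A)} ⊔
      Ideal.span {(PowerSeries.X : PowerSeries k) ^ n} • (⊤ : Submodule (PowerSeries k) A) →
      ∃ bS : Basis (Fin 2) (PowerSeries k) S, Ideal.span {Algebra.discr (PowerSeries k) ⇑bS} =
        Ideal.span {(PowerSeries.X : PowerSeries k) ^ (2 * n + a)} := fun n hn => by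
    obtain ⟨bS, e0, e1⟩ := hbasis n hn
    refine ⟨bS, ?_⟩
    rw [discr_quad bS e0 _ e1, Ideal.span_singleton_mul_left_unit]
    rw [PowerSeries.isUnit_iff_constantCoeff, map_ofNat]
    exact isUnit_iff_ne_zero.2 (by norm_num)
  refine ⟨⟨?_, ?_⟩, fun n hn => ?_⟩
  · rintro ⟨bS, hbS⟩
    obtain ⟨c, hc, hS⟩ := exists_coord bA h0 S bS
    obtain ⟨n, hn⟩ := IsDiscreteValuationRing.associated_pow_irreducible hc
      (PowerSeries.X_irreducible (R := k))
    have hsp : Subalgebra.toSubmodule S = Submodule.span (PowerSeries k) {(1 : A)} ⊔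
        Ideal.span {(PowerSeries.X : PowerSeries k) ^ n} • (⊤ : Submodule (PowerSeries k) A) := by
      rw [hS, ← sup_smul_top_eq bA h0 c, Ideal.span_singleton_eq_span_singleton.2 hn]
    obtain ⟨bS', hbS'⟩ := hdisc n hsp
    refine ⟨n, ?_, hsp⟩
    have e := hbS.symm.trans ((Groth.Agent.S13877.span_discr_eq bS bS').trans hbS')
    rw [Ideal.span_singleton_eq_span_singleton] at e
    exact le_antisymm
      ((pow_dvd_pow_iff (PowerSeries.X_ne_zero (R := k)) PowerSeries.X_irreducible.not_isUnit).1 e.dvd)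
      ((pow_dvd_pow_iff (PowerSeries.X_ne_zero (R := k)) PowerSeries.X_irreducible.not_isUnit).1 e.symm.dvd)
  · rintro ⟨n, rfl, hn⟩
    exact hdisc n hn
  · obtain ⟨bS, e0, e1⟩ := hbasis n hn
    exact nonempty_algEquiv_adjoinRoot bS e0 _ e1

end Groth.Agent.Crimp71
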