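import Mathlib
import Groth.Prelude.Def_W4c1hurwitzcptBd

/-!
`RootDisk p k = k⟦x⟧` over `k⟦x ^ p⟧`: residue components, adapted generators, valuations.
-/

set_option autoImplicit false

universe u

namespace Groth.Agent.Crimp71

open PowerSeries W4c1hurwitzcpt

variable {p : ℕ} [NeZero p] {k : Type u} [Field k]

theorem val_smul (r : PowerSeries k) (z : RootDisk p k) :
    RootDisk.val (r • z) = PowerSeries.expand p (NeZero.ne p) r * RootDisk.val z := rfl

/-- The component of residue `j`. -/
noncomputable def comp (j : Fin p) : RootDisk p k →ₗ[PowerSeries k] PowerSeries k where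
  toFun f := PowerSeries.mk fun i => coeff (p * i + j) (RootDisk.val f)
  map_add' f g := by ext i; simp
  map_smul' r f := by
    ext i
    simp only [coeff_mk, RingHom.id_apply, smul_eq_mul, val_smul, coeff_mul]
    symm
    have hp : 0 < p := Nat.pos_of_ne_zero (NeZero.ne p)
    refine Finset.sum_of_injOn (fun ab => (p * ab.1, p * ab.2 + j)) ?_ ?_ ?_ ?_
    · rintro ⟨a, b⟩ - ⟨c, d⟩ - h
      simp only [Prod.mk.injEq] at h
      obtain ⟨h1, h2⟩ := h
      exact Prod.ext (Nat.eq_of_mul_eq_mul_left hp h1) (Nat.eq_of_mul_eq_mul_left hp (Nat.add_right_cancel h2))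
    · rintro ⟨a, b⟩ h
      simp only [Finset.mem_coe, Finset.HasAntidiagonal.mem_antidiagonal] at h ⊢
      rw [← h, mul_add]; ring
    · rintro ⟨a, b⟩ hab hnot
      simp only [Finset.HasAntidiagonal.mem_antidiagonal] at hab
      rw [coeff_expand_of_not_dvd, zero_mul]
      rintro ⟨c, rfl⟩
      refine hnot ⟨(c, i - c), ?_, ?_⟩
      · have : p * c < p * (i + 1) := by rw [mul_add]; have := j.isLt; omega
        have := Nat.lt_of_mul_lt_mul_left this
        simp only [Finset.mem_coe, Finset.HasAntidiagonal.mem_antidiagonal]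
        omega
      · have hc : c ≤ i := by
          have : p * c < p * (i + 1) := by rw [mul_add]; have := j.isLt; omega
          have := Nat.lt_of_mul_lt_mul_left this
          omega
        have := Nat.mul_sub p i c
        have := Nat.mul_le_mul_left p hc
        exact Prod.ext rfl (by simp only; omega)
    · rintro ⟨a, b⟩ -
      simp [coeff_expand_mul]

theorem coeff_comp (j : Fin p) (f : RootDisk p k) (i : ℕ) :
    coeff i (comp j f) = coeff (p * i + j) (RootDisk.val f) := by simp [comp]

/-- Every submodule is spanned by elements with valuations in pairwise distinct residue classes. -/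
theorem exists_adapted (s : Finset (Fin p)) : ∀ N : Submodule (PowerSeries k) (RootDisk p k),
    (∀ m ∈ N, ∀ j ∉ s, comp j m = 0) →
    ∃ (t : Finset (Fin p)) (g : Fin p → RootDisk p k), t ⊆ s ∧
      (∀ j ∈ t, g j ∈ N ∧ ∃ v : ℕ, PowerSeries.order (RootDisk.val (g j)) = v ∧ v % p = j) ∧
      N ≤ Submodule.span (PowerSeries k) (g '' t) := by
  classical
  induction s using Finset.strongInduction with
  | _ s ih =>
    intro N hN
    by_cases hne : ∃ v, ∃ m ∈ N, coeff v (RootDisk.val m) ≠ 0
    · let v := Nat.find hne
      obtain ⟨m0, hm0, hv⟩ := Nat.find_spec hne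
      have hlow : ∀ m ∈ N, ∀ i < v, coeff i (RootDisk.val m) = 0 := fun m hm i hi => by
        by_contra h
        exact Nat.find_min hne hi ⟨m, hm, h⟩
      let j : Fin p := ⟨v % p, Nat.mod_lt _ (Nat.pos_of_ne_zero (NeZero.ne p))⟩
      have hvj : p * (v / p) + (j : ℕ) = v := Nat.div_add_mod v p
      have hj : j ∈ s := by
        by_contra h
        have := congrArg (coeff (v / p)) (hN m0 hm0 j h)
        rw [coeff_comp, hvj, map_zero] at this
        exact hv this
      have hdiv : ∀ m ∈ N, comp j m0 ∣ comp j m := fun m hm => by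
        have h1 : ∀ m ∈ N, (X : PowerSeries k) ^ (v / p) ∣ comp j m := fun m hm => by
          rw [X_pow_dvd_iff]
          intro i hi
          rw [coeff_comp]
          refine hlow m hm _ ?_
          have := Nat.mul_lt_mul_of_pos_left hi (Nat.pos_of_ne_zero (NeZero.ne p))
          omega
        obtain ⟨u, hu⟩ := h1 m0 hm0
        have hunit : IsUnit u := by
          rw [isUnit_iff_constantCoeff, isUnit_iff_ne_zero]
          intro h
          apply hv
          have := congrArg (coeff (v / p)) hu
          rw [coeff_comp, hvj, coeff_X_pow_mul' ] at this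
          simpa [h] using this
        rw [hu]
        exact hunit.mul_right_dvd.2 (h1 m hm)
      obtain ⟨t, g, hts, hg, hle⟩ := ih (s.erase j) (Finset.erase_ssubset hj)
        (N ⊓ LinearMap.ker (comp j)) (fun m hm i hi => by
          by_cases hij : i = j
          · subst hij; exact hm.2
          · exact hN m hm.1 i (fun h => hi (Finset.mem_erase.2 ⟨hij, h⟩)))
      have hjt : j ∉ t := fun h => (Finset.mem_erase.1 (hts h)).1 rfl
      refine ⟨insert j t, Function.update g j m0, ?_, ?_, ?_⟩
      · exact Finset.insert_subset hj (hts.trans (Finset.erase_subset _ _))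
      · intro i hi
        obtain rfl | hi := Finset.mem_insert.1 hi
        · rw [Function.update_self]
          exact ⟨hm0, v, order_eq_nat.2 ⟨hv, hlow m0 hm0⟩, rfl⟩
        · rw [Function.update_of_ne (fun h => hjt (by rwa [← h]))]
          exact ⟨(hg i hi).1.1, (hg i hi).2⟩
      · intro m hm
        obtain ⟨r, hr⟩ := hdiv m hm
        have himg : g '' (t : Set (Fin p)) ⊆ Function.update g j m0 '' (↑(insert j t) : Set (Fin p)) := by
          rintro _ ⟨i, hi, rfl⟩
          exact ⟨i, by simp [Finset.mem_coe.1 hi],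
            Function.update_of_ne (fun h => hjt (by rw [← h]; exact hi)) _ _⟩
        rw [show m = (m - r • m0) + r • m0 by abel]
        refine add_mem (Submodule.span_mono himg (hle ⟨sub_mem hm (N.smul_mem r hm0), ?_⟩))
          (Submodule.smul_mem _ _ (Submodule.subset_span ⟨j, by simp, Function.update_self ..⟩))
        show comp j (m - r • m0) = 0
        rw [map_sub, map_smul, hr, smul_eq_mul, mul_comm, sub_self]
    · refine ⟨∅, fun _ => 0, Finset.empty_subset _, by simp, fun m hm => ?_⟩
      push Not at hne
      have : RootDisk.val m = 0 := PowerSeries.ext fun v => by simpa using hne v m hm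
      rw [show m = 0 from RootDisk.val.injective (this.trans (map_zero _).symm)]
      exact zero_mem _

/-- The valuation obstruction to closedness. -/
theorem not_sq_eq (m n : ℕ) (hmp : ¬ p ∣ m) (hn : 2 * m < n) (a b : PowerSeries k) (g c : PowerSeries k)
    (hg : constantCoeff g ≠ 0) (ha : a = 0 ∨ ¬ p ∣ 2 * m) :
    (X ^ m * g) * (X ^ m * g) ≠
      PowerSeries.expand p (NeZero.ne p) a + PowerSeries.expand p (NeZero.ne p) b * (X ^ m * g) + X ^ n * c := by
  intro h
  rw [show X ^ m * g * (X ^ m * g) = X ^ (2 * m) * (g * g) by ring] at h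
  have hA : ∀ i, (a = 0 ∨ ¬ p ∣ i) → coeff i (PowerSeries.expand p (NeZero.ne p) a) = 0 := fun i hi => by
    rcases hi with rfl | hi
    · simp
    · exact coeff_expand_of_not_dvd p (NeZero.ne p) a hi
  have hN : ∀ i, i < n → coeff i (X ^ n * c) = 0 := fun i hi => by
    rw [coeff_X_pow_mul', if_neg (by omega)]
  have hlead : constantCoeff (g * g) = coeff (2 * m)
      (PowerSeries.expand p (NeZero.ne p) b * (X ^ m * g)) := by
    have h2 := congrArg (coeff (2 * m)) h
    rwa [map_add, map_add, hA _ ha, hN _ hn, coeff_X_pow_mul', if_pos le_rfl, Nat.sub_self,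
      coeff_zero_eq_constantCoeff_apply, zero_add, add_zero] at h2
  by_cases hb : b = 0
  · simp [hb, hg] at hlead
  obtain ⟨β, u, hu, rfl⟩ : ∃ β u, IsUnit u ∧ b = X ^ β * u := by
    obtain ⟨β, hβ⟩ := IsDiscreteValuationRing.associated_pow_irreducible hb (X_irreducible (R := k))
    obtain ⟨w, hw⟩ := hβ.symm
    exact ⟨β, w, w.isUnit, hw.symm⟩
  have e : PowerSeries.expand p (NeZero.ne p) (X ^ β * u) * (X ^ m * g) =
      X ^ (p * β + m) * (PowerSeries.expand p (NeZero.ne p) u * g) := by
    rw [map_mul, map_pow, expand_X, ← pow_mul]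
    ring
  rw [e] at h hlead
  by_cases hle : p * β + m ≤ 2 * m
  · have hlt : p * β + m < 2 * m := lt_of_le_of_ne hle fun e => hmp ⟨β, by omega⟩
    have h3 := congrArg (coeff (p * β + m)) h
    have hnd : ¬ p ∣ p * β + m := fun hd => hmp ((Nat.dvd_add_right (dvd_mul_right p β)).1 hd)
    rw [map_add, map_add, hA _ (Or.inr hnd), hN _ (by omega), coeff_X_pow_mul', if_neg (by omega),
      coeff_X_pow_mul', if_pos le_rfl, Nat.sub_self, coeff_zero_eq_constantCoeff_apply, map_mul, zero_add,
      add_zero, constantCoeff_expand] at h3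
    exact mul_ne_zero (isUnit_iff_ne_zero.1 (isUnit_iff_constantCoeff.1 hu)) hg h3.symm
  · rw [coeff_X_pow_mul', if_neg hle, map_mul] at hlead
    exact mul_ne_zero hg hg hlead

end Groth.Agent.Crimp71
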